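import Cfsg.Agent.Lib.MaxDeg.Quotient

/-!
# Groups with bounded character degrees: the Frobenius quotient

Owner: helper1.  `K` is maximal with nonabelian quotient `Q = G / K`, the centre of `Q` is
trivial and `N = Q'` is abelian.  Then `Q = N C(x)` for `x` outside `N`.
-/

namespace CfsgLib.MaxDeg

open Cfsg CfsgLib.Char ComplexConjugate
open scoped commutatorElement

universe u

theorem pow_four_factorial_bound {b : ℕ} (h : 5 ≤ b) :
    b ^ 4 * (b / 2).factorial ^ 2 ≤ b.factorial ^ 2 := by
  rw [show b ^ 4 = (b ^ 2) ^ 2 by ring, ← mul_pow]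
  refine Nat.pow_le_pow_left ?_ 2
  have h1 : (b / 2).factorial ≤ (b - 3).factorial := Nat.factorial_le (by omega)
  obtain ⟨m, rfl⟩ : ∃ m, b = m + 3 := ⟨b - 3, by omega⟩
  rw [Nat.add_sub_cancel] at h1
  have h2 : (m + 3).factorial = (m + 3) * ((m + 2) * ((m + 1) * m.factorial)) := by
    simp only [Nat.factorial_succ]
  rw [h2]
  calc (m + 3) ^ 2 * ((m + 3) / 2).factorial ≤ (m + 3) ^ 2 * m.factorial :=
        Nat.mul_le_mul_left _ h1
    _ ≤ (m + 3) * ((m + 2) * ((m + 1) * m.factorial)) := by
        rw [← mul_assoc (m + 2), ← mul_assoc (m + 3), pow_two]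
        exact Nat.mul_le_mul_right _ (Nat.mul_le_mul_left _ (by nlinarith))

theorem pow_three_factorial_bound {b : ℕ} (h : 3 ≤ b) :
    b ^ 3 * (b / 2).factorial ^ 2 ≤ b.factorial ^ 2 := by
  rcases Nat.lt_or_ge b 5 with hb | hb
  · interval_cases b <;> simp [Nat.factorial]
  · exact (Nat.mul_le_mul_right _ (Nat.pow_le_pow_right (by omega) (by norm_num))).trans
      (pow_four_factorial_bound hb)

variable {Q : Type u} [Group Q] [Finite Q]

/-- Structure of a group with trivial centre whose derived subgroup is abelian and is the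
unique minimal normal subgroup. -/
theorem frobenius_structure (hmin : ∀ M : Subgroup Q, M.Normal → M ≠ ⊥ → commutator Q ≤ M)
    (hna : ¬ ∀ x y : Q, x * y = y * x) (hZ : Subgroup.center Q = ⊥)
    (hab : ∀ m ∈ commutator Q, ∀ n ∈ commutator Q, m * n = n * m) :
    ∃ x : Q,
      (Subgroup.centralizer ({x} : Set Q)).normalCore = ⊥ ∧
      1 < Nat.card (Subgroup.centralizer ({x} : Set Q)) ∧
      Nat.card (commutator Q) * Nat.card (Subgroup.centralizer ({x} : Set Q)) = Nat.card Q ∧
      (∀ g : Q, g ∉ commutator Q → ∀ n ∈ commutator Q, g * n = n * g → n = 1) := by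
  classical
  set N := commutator Q with hN
  have hNne : N ≠ ⊥ := fun h => hna fun x y => by
    rw [← commutatorElement_eq_one_iff_mul_comm, ← Subgroup.mem_bot, ← h]
    exact Subgroup.commutator_mem_commutator (Subgroup.mem_top _) (Subgroup.mem_top _)
  have hcomN : ∀ a c : Q, ⁅a, c⁆ ∈ N := fun a c =>
    Subgroup.commutator_mem_commutator (Subgroup.mem_top _) (Subgroup.mem_top _)
  set M := Subgroup.centralizer (N : Set Q) with hM
  have hfix : ∀ g : Q, g ∉ M → ∀ n ∈ N, g * n = n * g → n = 1 := by
    intro g hg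
    set D := Subgroup.centralizer ({g} : Set Q) ⊓ N with hD
    have hDn : D.Normal := ⟨fun n hn q => by
      obtain ⟨hn1, hn2⟩ := Subgroup.mem_inf.mp hn
      rw [Subgroup.mem_centralizer_singleton_iff] at hn1
      have hn2' := Subgroup.Normal.conj_mem (inferInstance : (commutator Q).Normal) _ hn2 q
      refine Subgroup.mem_inf.mpr ⟨?_, hn2'⟩
      rw [Subgroup.mem_centralizer_singleton_iff]
      have h1 := hab _ (hcomN g q) _ hn2'
      rw [commutatorElement_def] at h1
      calc q * n * q⁻¹ * g = (q * n * q⁻¹) * (g * q * g⁻¹ * q⁻¹) * (q * g * q⁻¹) := by group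
        _ = (g * q * g⁻¹ * q⁻¹) * (q * n * q⁻¹) * (q * g * q⁻¹) := by rw [h1]
        _ = g * q * g⁻¹ * (n * g) * q⁻¹ := by group
        _ = g * q * g⁻¹ * (g * n) * q⁻¹ := by rw [hn1]
        _ = g * (q * n * q⁻¹) := by group⟩
    intro n hn hgn
    by_contra hn1
    have hDne : D ≠ ⊥ := fun h => by
      have : n ∈ D := ⟨Subgroup.mem_centralizer_singleton_iff.mpr hgn.symm, hn⟩
      rw [h, Subgroup.mem_bot] at this
      exact hn1 this
    exact hg fun m hm =>
      Subgroup.mem_centralizer_singleton_iff.mp ((hmin D hDn hDne hm).1)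
  obtain ⟨x, hx⟩ : ∃ x, x ∉ M := by
    by_contra hcon
    push Not at hcon
    apply hNne
    rw [eq_bot_iff, ← hZ]
    intro n hn
    exact Subgroup.mem_center_iff.mpr fun g => ((hcon g) n hn).symm
  set C := Subgroup.centralizer ({x} : Set Q) with hC
  have hCN : ∀ n ∈ N, n ∈ C → n = 1 := fun n hn hnC =>
    hfix x hx n hn (Subgroup.mem_centralizer_singleton_iff.mp hnC).symm
  have hidx : C.index ≤ Nat.card N := by
    rw [hC, ← card_isConj]
    refine Nat.card_le_card_of_injective
      (fun y => (⟨y.1 * x⁻¹, ?_⟩ : N)) fun a c h => ?_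
    · obtain ⟨z, hz⟩ := isConj_iff.mp y.2
      rw [← hz, ← commutatorElement_def]
      exact hcomN z x
    · exact Subtype.ext (mul_right_cancel (congrArg Subtype.val h))
  set p : N × C → Q := fun a => (a.1 : Q) * a.2 with hp
  have hpinj : Function.Injective p := by
    rintro ⟨n, c⟩ ⟨n', c'⟩ h
    have h1 : (n' : Q)⁻¹ * n = (c' : Q) * (c : Q)⁻¹ := by
      have h' : (n : Q) * c = n' * c' := h
      rw [eq_mul_inv_iff_mul_eq, mul_assoc, h', inv_mul_cancel_left]
    have h2 := hCN _ (N.mul_mem (N.inv_mem n'.2) n.2)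
      (h1 ▸ C.mul_mem c'.2 (C.inv_mem c.2))
    rw [inv_mul_eq_one] at h2
    have h3 : n = n' := Subtype.ext h2.symm
    subst h3
    exact Prod.ext rfl (Subtype.ext (mul_left_cancel h))
  have hprod : Nat.card N * Nat.card C = Nat.card Q := by
    refine le_antisymm ?_ ?_
    · rw [← Nat.card_prod]; exact Nat.card_le_card_of_injective p hpinj
    · calc Nat.card Q = C.index * Nat.card C := C.index_mul_card.symm
        _ ≤ Nat.card N * Nat.card C := Nat.mul_le_mul_right _ hidx
  have hpbij : Function.Bijective p :=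
    (Nat.bijective_iff_injective_and_card p).mpr ⟨hpinj, by rw [Nat.card_prod, hprod]⟩
  have hCab : ∀ c ∈ C, ∀ c' ∈ C, c * c' = c' * c := fun c hc c' hc' => by
    rw [← commutatorElement_eq_one_iff_mul_comm]
    refine hCN _ (hcomN c c') ?_
    rw [commutatorElement_def]
    exact C.mul_mem (C.mul_mem (C.mul_mem hc hc') (C.inv_mem hc)) (C.inv_mem hc')
  have hMN : ∀ g ∈ M, g ∈ N := by
    intro g hg
    obtain ⟨⟨n, c⟩, rfl⟩ := hpbij.2 g
    suffices (c : Q) = 1 by simpa [hp, this] using n.2
    rw [← Subgroup.mem_bot, ← hZ, Subgroup.mem_center_iff]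
    have hcM : (c : Q) ∈ M := by
      have hnM : (n : Q) ∈ M := fun m hm => hab m hm n n.2
      simpa [hp] using M.mul_mem (M.inv_mem hnM) hg
    intro q
    obtain ⟨⟨m, d⟩, rfl⟩ := hpbij.2 q
    simp only [hp]
    rw [mul_assoc, hCab d d.2 c c.2, ← mul_assoc, hcM m m.2, mul_assoc]
  refine ⟨x, ?_, ?_, hprod, fun g hg => hfix g fun h => hg (hMN g h)⟩
  · by_contra hne
    apply hNne
    rw [eq_bot_iff]
    intro n hn
    exact Subgroup.mem_bot.mpr
      (hCN n hn (Subgroup.normalCore_le _ (hmin _ inferInstance hne hn)))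
  · refine Finite.one_lt_card_iff_nontrivial.mpr ⟨⟨x, ?_⟩, 1, fun h => hx ?_⟩
    · exact Subgroup.mem_centralizer_singleton_iff.mpr rfl
    · have hx1 : x = 1 := congrArg Subtype.val h
      rw [hx1]; exact M.one_mem

variable {G : Type u} [Group G] [Finite G] (K : Subgroup G) [K.Normal]

/-- The case of a minimal nonabelian quotient with trivial centre and abelian derived
subgroup. -/
theorem step_frobenius {b : ℕ} (hb2 : 2 ≤ b) (hb : DegLe G b)
    (hna : ¬ ∀ x y : G ⧸ K, x * y = y * x)
    (hmin : ∀ M : Subgroup (G ⧸ K), M.Normal → M ≠ ⊥ → commutator (G ⧸ K) ≤ M)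
    (hZ : Subgroup.center (G ⧸ K) = ⊥)
    (hab : ∀ m ∈ commutator (G ⧸ K), ∀ n ∈ commutator (G ⧸ K), m * n = n * m) :
    Step G b := by
  classical
  have := Fintype.ofFinite G
  have := Fintype.ofFinite (G ⧸ K)
  obtain ⟨x, hcore, hf1, hcard, hfpf⟩ := frobenius_structure hmin hna hZ hab
  set N := commutator (G ⧸ K) with hN
  have := Fintype.ofFinite N
  set f := Nat.card (Subgroup.centralizer ({x} : Set (G ⧸ K))) with hf
  have hNidx : N.index = f := by
    have h := N.card_mul_index
    rw [← hcard] at h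
    exact Nat.eq_of_mul_eq_mul_left Nat.card_pos h
  let _ : CommGroup N := { (inferInstance : Group N) with
    mul_comm := fun a c => Subtype.ext (hab a a.2 c c.2) }
  have hNne : N ≠ ⊥ := fun h => hna fun x y => by
    rw [← commutatorElement_eq_one_iff_mul_comm, ← Subgroup.mem_bot, ← h]
    exact Subgroup.commutator_mem_commutator (Subgroup.mem_top _) (Subgroup.mem_top _)
  obtain ⟨w, hw⟩ := Subgroup.ne_bot_iff_exists_ne_one.mp hNne
  obtain ⟨lam, hlam⟩ := CommGroup.exists_apply_ne_one_of_hasEnoughRootsOfUnity N ℂ hw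
  let θ : IrrCharacter N := ⟨_, isIrrCharacter_lin lam⟩
  have hinertia : inertia N (θ : N → ℂ) = N := by
    refine le_antisymm (fun g hg => ?_) (le_inertia N (isClassFunction_irr θ))
    by_contra hgN
    apply hlam
    let φ : N →* N := (normalConjHom N g) / MonoidHom.id N
    have hinj : Function.Injective φ := by
      rw [injective_iff_map_eq_one]
      intro n hn
      simp only [φ, MonoidHom.div_apply, MonoidHom.id_apply, div_eq_one] at hn
      refine Subtype.ext (hfpf g hgN n n.2 ?_)
      have h' : g * (n : G ⧸ K) * g⁻¹ = n := congrArg Subtype.val hn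
      exact mul_inv_eq_iff_eq_mul.mp h'
    obtain ⟨n, hn⟩ := Finite.surjective_of_injective hinj w
    rw [← hn]
    simp only [φ, MonoidHom.div_apply, MonoidHom.id_apply, map_div, div_eq_one]
    exact Units.ext (congrFun ((mem_inertia N _ g).mp hg) n)
  have hfb : f ≤ b := by
    obtain ⟨Φ, hΦ⟩ := exists_over N θ
    obtain ⟨d, hd0, hd⟩ := isIrrCharacter_degree Φ.2
    obtain ⟨m, hm⟩ :=
      classInner_char_irr_nat (isCharacter_restrict N (isCharacter_irr Φ)) θ
    have h := clifford_degree N Φ.2 θ.2 hΦ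
    rw [hd, hm, hinertia, hNidx] at h
    simp only [θ, map_one, Units.val_one, mul_one] at h
    have h' : d = m * f := by exact_mod_cast h
    have hm0 : m ≠ 0 := by rintro rfl; simp [hd0.ne'] at h'
    exact (Nat.le_mul_of_pos_left f (Nat.pos_of_ne_zero hm0)).trans
      (h' ▸ degLe_quotient K hb Φ d hd)
  set H := N.comap (QuotientGroup.mk' K) with hH
  have := Fintype.ofFinite H
  by_cases hdeg : DegLe H (b - 1)
  · refine step_of_index_le (by omega) H hdeg ?_
    rw [hH, index_comap_mk, hNidx, pow_two]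
    exact hfb.trans (Nat.le_mul_self b)
  obtain ⟨ψ, d, hd, hlt⟩ := not_degLe_iff.mp hdeg
  have hdle := hb.subgroup H ψ d hd
  obtain rfl : d = b := by omega
  have : H.Normal := Subgroup.Normal.comap inferInstance _
  have := Fintype.ofFinite (K.subgroupOf H)
  let π : H →* N :=
    ((QuotientGroup.mk' K).comp H.subtype).codRestrict N fun h => Subgroup.mem_comap.mp h.2
  obtain ⟨χ, hχ⟩ := exists_extension H hb hd
  have hdvd : Nat.card N ∣ d ^ 2 := by
    have h := index_dvd_sq_of_vanish (K.subgroupOf H) ψ hd fun h hh => by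
      by_contra hne
      apply hh
      have hπ : π h = 1 := by
        by_contra hπ1
        obtain ⟨y, rfl⟩ := QuotientGroup.mk'_surjective K x
        have hyN : QuotientGroup.mk' K y ∉ N := by
          intro hy
          have hall : ∀ n ∈ N, n ∈ Subgroup.centralizer ({QuotientGroup.mk' K y} : Set _) :=
            fun n hn => Subgroup.mem_centralizer_singleton_iff.mpr (hab n hn _ hy)
          obtain ⟨⟨m, hmN⟩, hm⟩ := Subgroup.ne_bot_iff_exists_ne_one.mp hNne
          have hle : N ≤ (Subgroup.centralizer ({QuotientGroup.mk' K y} : Set _)).normalCore :=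
            Subgroup.normal_le_normalCore.mpr hall
          exact hm (Subtype.ext (Subgroup.mem_bot.mp (hcore ▸ hle hmN)))
        set h' : H := ⟨y * h * y⁻¹, Subgroup.Normal.conj_mem inferInstance _ h.2 y⟩ with hh'
        have hne' : π h' ≠ π h := by
          intro he
          apply hπ1
          refine Subtype.ext (hfpf _ hyN _ (π h).2 ?_)
          have he' : QuotientGroup.mk' K (y * h * y⁻¹) = QuotientGroup.mk' K h :=
            congrArg Subtype.val he
          rw [map_mul, map_mul, map_inv] at he'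
          exact mul_inv_eq_iff_eq_mul.mp he'
        obtain ⟨μ0, hμ0⟩ := CommGroup.exists_apply_ne_one_of_hasEnoughRootsOfUnity N ℂ
          (a := π h' / π h) (by rwa [ne_eq, div_eq_one])
        set μ : H →* ℂˣ := μ0.comp π with hμ
        obtain ⟨χ', hχ'⟩ := exists_extension H hb
          (ψ := ⟨_, isIrrCharacter_mul_linear ψ μ⟩) (by simp [hd])
        have hconj : ∀ η : IrrCharacter G, (η : G → ℂ) h' = (η : G → ℂ) h := fun η =>
          (classFun_isConj (isClassFunction_irr η) (isConj_iff.mpr ⟨y, rfl⟩)).symm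
        have h1 := hconj χ
        rw [hχ, hχ] at h1
        have h2 := hconj χ'
        rw [hχ', hχ'] at h2
        simp only [h1] at h2
        apply hμ0
        rw [map_div, div_eq_one]
        exact Units.ext (mul_right_cancel₀ hne h2)
      exact Subgroup.mem_subgroupOf.mpr
        ((QuotientGroup.eq_one_iff _).mp (congrArg Subtype.val hπ))
    refine (dvd_of_eq (Eq.symm ?_)).trans h
    have h1 := Subgroup.relIndex_mul_index (le_comap_mk K N)
    rw [index_comap_mk, Subgroup.index_eq_card (H := K), ← N.card_mul_index] at h1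
    exact Nat.eq_of_mul_eq_mul_right (Nat.pos_of_ne_zero N.index_ne_zero_of_finite) h1
  have hQ : Nat.card (G ⧸ K) ≤ d ^ 3 := by
    rw [← hcard, pow_succ]
    exact Nat.mul_le_mul (Nat.le_of_dvd (by positivity) hdvd) hfb
  rcases Nat.lt_or_ge d 3 with hd3 | hd3
  · exfalso
    obtain rfl : d = 2 := by omega
    obtain ⟨i, -, hi⟩ := (Nat.dvd_prime_pow Nat.prime_two).mp hdvd
    have hf2 : f = 2 := by omega
    have hP : IsPGroup 2 (G ⧸ K) :=
      IsPGroup.of_card (n := i + 1) (by rw [← hcard, hi, hf2, pow_succ])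
    have : Nontrivial (G ⧸ K) := by
      by_contra hT
      rw [not_nontrivial_iff_subsingleton] at hT
      exact hna fun a c => Subsingleton.elim _ _
    have : Fact (Nat.Prime 2) := ⟨Nat.prime_two⟩
    have := hP.center_nontrivial
    exact (Subgroup.nontrivial_iff_ne_bot _).mp this hZ
  · exact step_of_index K (by omega) hb hna
      ((Nat.mul_le_mul_right _ hQ).trans (pow_three_factorial_bound hd3))

end CfsgLib.MaxDeg
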