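import Cfsg.Agent.Lib.MaxDeg.Abelian
import Cfsg.Agent.Lib.Char.Burnside

/-!
# Abelian subgroups of small index in groups with bounded character degrees

Owner: helper1.  The case of a nonabelian derived subgroup in the minimal nonabelian
quotient, and the induction: if all irreducible degrees are at most `b`, some abelian
subgroup has index at most `(b!) ^ 2` (Isaacs–Passman).
-/

namespace CfsgLib.MaxDeg

open Cfsg CfsgLib.Char
open scoped commutatorElement

universe u

section Classes
variable {Q : Type u} [Group Q] [Finite Q]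

/-- Some nontrivial element has at most `b ^ 2` conjugates. -/
theorem exists_small_class {b : ℕ} (hb : DegLe Q b) [Nontrivial Q] :
    ∃ x : Q, x ≠ 1 ∧ (Subgroup.centralizer ({x} : Set Q)).index ≤ b ^ 2 := by
  classical
  by_contra hcon
  push Not at hcon
  have := Fintype.ofFinite Q
  have := Fintype.ofFinite (IrrCharacter Q)
  set k := Nat.card (IrrCharacter Q) with hk
  set n := Nat.card Q with hn
  have hn2 : 1 < n := Finite.one_lt_card
  -- degrees
  choose d hd0 hd using fun χ : IrrCharacter Q => isIrrCharacter_degree χ.2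
  have hsq : ∑ χ : IrrCharacter Q, d χ ^ 2 = n := by
    have h := sum_degree_sq (G := Q)
    simp only [hd] at h
    exact_mod_cast h
  let one : IrrCharacter Q := ⟨fun _ => 1, isIrrCharacter_one⟩
  have hd1 : d one = 1 := by
    have := hd one; simp only [one] at this; exact_mod_cast this.symm
  have hdeg : n ≤ 1 + (k - 1) * b ^ 2 := by
    rw [← hsq, ← Finset.add_sum_erase _ _ (Finset.mem_univ one), hd1, one_pow]
    refine Nat.add_le_add_left ((Finset.sum_le_card_nsmul _ _ (b ^ 2) fun χ _ =>
      Nat.pow_le_pow_left (hb χ _ (hd χ)) 2).trans_eq ?_) 1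
    rw [smul_eq_mul, Finset.card_erase_of_mem (Finset.mem_univ _), Finset.card_univ, hk,
      Nat.card_eq_fintype_card]
  have hcount : ∑ x : Q, Nat.card (Subgroup.centralizer ({x} : Set Q)) = k * n := by
    rw [hk, hn, card_irr_eq_card_conjClasses, ← card_comm_eq_card_conjClasses_mul_card,
      Nat.card_congr (Equiv.subtypeProdEquivSigmaSubtype fun a c : Q => Commute a c),
      Nat.card_sigma]
    refine Finset.sum_congr rfl fun x _ => Nat.card_congr (Equiv.subtypeEquivRight fun c => ?_)
    rw [Subgroup.mem_centralizer_singleton_iff]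
    exact eq_comm
  have hbound : ∀ x : Q, x ≠ 1 →
      Nat.card (Subgroup.centralizer ({x} : Set Q)) * b ^ 2 ≤ n - 1 := by
    intro x hx
    have h2 : Nat.card (Subgroup.centralizer ({x} : Set Q)) * b ^ 2 < n := by
      rw [hn, ← (Subgroup.centralizer ({x} : Set Q)).card_mul_index]
      exact (Nat.mul_lt_mul_left Nat.card_pos).mpr (hcon x hx)
    omega
  have htot : k * n * b ^ 2 ≤ n * b ^ 2 + (n - 1) * (n - 1) := by
    rw [← hcount, Finset.sum_mul, ← Finset.add_sum_erase _ _ (Finset.mem_univ (1 : Q))]
    refine Nat.add_le_add (Nat.mul_le_mul_right _ ?_) ?_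
    · exact Subgroup.card_le_card_group _
    · refine (Finset.sum_le_card_nsmul _ _ (n - 1)
        fun x hx => hbound x (Finset.ne_of_mem_erase hx)).trans_eq ?_
      rw [smul_eq_mul, Finset.card_erase_of_mem (Finset.mem_univ _), Finset.card_univ, hn,
        Nat.card_eq_fintype_card]
  obtain ⟨j, hj⟩ : ∃ j, k = j + 1 := ⟨k - 1, by
    have : 0 < k := Nat.card_pos_iff.mpr ⟨⟨one⟩, inferInstance⟩
    omega⟩
  obtain ⟨m, hm⟩ : ∃ m, n = m + 2 := ⟨n - 2, by omega⟩
  rw [hj, Nat.add_sub_cancel, hm] at hdeg
  rw [hj, hm, show m + 2 - 1 = m + 1 from rfl] at htot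
  nlinarith

end Classes

section Nonabelian
variable {G : Type u} [Group G] [Finite G] (K : Subgroup G) [K.Normal]

theorem prime_five : Nat.Prime 5 := by norm_num

/-- The case of a nonabelian derived subgroup. -/
theorem step_nonabelian {b : ℕ} (hb2 : 2 ≤ b) (hb : DegLe G b)
    (hna : ¬ ∀ x y : G ⧸ K, x * y = y * x)
    (hmin : ∀ M : Subgroup (G ⧸ K), M.Normal → M ≠ ⊥ → commutator (G ⧸ K) ≤ M)
    (hnab : ¬ ∀ m ∈ commutator (G ⧸ K), ∀ n ∈ commutator (G ⧸ K), m * n = n * m) :
    Step G b := by
  classical
  set N := commutator (G ⧸ K) with hN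
  have hNne : N ≠ ⊥ := fun h => hnab fun m hm n hn => by
    rw [h, Subgroup.mem_bot] at hm hn
    rw [hm, hn]
  have hcent : Subgroup.centralizer (N : Set (G ⧸ K)) = ⊥ := by
    by_contra hne
    exact hnab fun m hm n hn => ((hmin _ inferInstance hne hm) n hn).symm
  have : Nontrivial (G ⧸ K) := by
    by_contra hT
    rw [not_nontrivial_iff_subsingleton] at hT
    exact hna fun a c => Subsingleton.elim _ _
  -- the quotient is not solvable
  have hperf : ⁅N, N⁆ = N := by
    refine le_antisymm (Subgroup.commutator_le_left _ _) (hmin _ inferInstance fun h => ?_)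
    exact hnab fun m hm n hn => by
      rw [← commutatorElement_eq_one_iff_mul_comm, ← Subgroup.mem_bot, ← h]
      exact Subgroup.commutator_mem_commutator hm hn
  have hns : ¬ Group.IsSolvable (G ⧸ K) := by
    intro hs
    obtain ⟨n, hn⟩ := hs.solvable
    have hds : ∀ i, N ≤ derivedSeries (G ⧸ K) i := by
      intro i
      induction i with
      | zero => exact le_top
      | succ i ih =>
        rw [derivedSeries_succ]
        exact (le_of_eq hperf.symm).trans (Subgroup.commutator_mono ih ih)
    exact hNne (eq_bot_iff.mpr (hn ▸ hds n))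
  have h2p : ∀ p q i j : ℕ, p.Prime → q.Prime → Nat.card (G ⧸ K) = p ^ i * q ^ j → False :=
    fun p q i j hp hq h => hns (isSolvable_of_card_two_primes hp hq _ i j h)
  obtain ⟨x, hx1, hxc⟩ := exists_small_class (degLe_quotient K hb)
  set C := Subgroup.centralizer ({x} : Set (G ⧸ K)) with hC
  have hcore : C.normalCore = ⊥ := by
    by_contra hne
    apply hx1
    rw [← Subgroup.mem_bot, ← hcent]
    intro m hm
    exact Subgroup.mem_centralizer_singleton_iff.mp
      (Subgroup.normalCore_le _ (hmin _ inferInstance hne hm))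
  rcases degLe_or_dvd K hb C hcore with hdeg | hdvd
  · exact step_of_index_le (by omega) _ hdeg ((index_comap_mk K C).trans_le hxc)
  have hcard : Nat.card (G ⧸ K) = C.index * Nat.card C := C.index_mul_card.symm
  rcases Nat.lt_or_ge b 5 with hb5 | hb5
  swap
  · refine step_of_index K hb2 hb hna
      ((Nat.mul_le_mul_right _ ?_).trans (pow_four_factorial_bound hb5))
    rw [hcard, show b ^ 4 = b ^ 2 * b ^ 2 by ring]
    exact Nat.mul_le_mul hxc (Nat.le_of_dvd (by positivity) hdvd)
  have hc0 : C.index ≠ 0 := C.index_ne_zero_of_finite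
  have hc1 : 1 ≤ C.index := Nat.pos_of_ne_zero hc0
  interval_cases b
  · -- degree at most two
    obtain ⟨i, -, hi⟩ := (Nat.dvd_prime_pow Nat.prime_two).mp (show Nat.card C ∣ 2 ^ 2 from hdvd)
    rw [hi] at hcard
    have : C.index ≤ 4 := hxc
    exfalso
    interval_cases hci : C.index
    · exact h2p 2 3 i 0 Nat.prime_two Nat.prime_three (by rw [hcard]; ring)
    · exact h2p 2 3 (i + 1) 0 Nat.prime_two Nat.prime_three (by rw [hcard]; ring)
    · exact h2p 2 3 i 1 Nat.prime_two Nat.prime_three (by rw [hcard]; ring)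
    · exact h2p 2 3 (i + 2) 0 Nat.prime_two Nat.prime_three (by rw [hcard]; ring)
  · -- degree at most three
    obtain ⟨i, -, hi⟩ := (Nat.dvd_prime_pow Nat.prime_three).mp (show Nat.card C ∣ 3 ^ 2 from hdvd)
    rw [hi] at hcard
    have : C.index ≤ 9 := hxc
    exfalso
    interval_cases hci : C.index
    · exact h2p 2 3 0 i Nat.prime_two Nat.prime_three (by rw [hcard]; ring)
    · exact h2p 2 3 1 i Nat.prime_two Nat.prime_three (by rw [hcard]; ring)
    · exact h2p 2 3 0 (i + 1) Nat.prime_two Nat.prime_three (by rw [hcard]; ring)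
    · exact h2p 2 3 2 i Nat.prime_two Nat.prime_three (by rw [hcard]; ring)
    · exact h2p 5 3 1 i prime_five Nat.prime_three (by rw [hcard]; ring)
    · exact h2p 2 3 1 (i + 1) Nat.prime_two Nat.prime_three (by rw [hcard]; ring)
    · exact h2p 7 3 1 i (by norm_num) Nat.prime_three (by rw [hcard]; ring)
    · exact h2p 2 3 3 i Nat.prime_two Nat.prime_three (by rw [hcard]; ring)
    · exact h2p 2 3 0 (i + 2) Nat.prime_two Nat.prime_three (by rw [hcard]; ring)
  · -- degree at most four
    obtain ⟨i, hi4, hi⟩ := (Nat.dvd_prime_pow Nat.prime_two).mp (show Nat.card C ∣ 2 ^ 4 from hdvd)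
    rw [hi] at hcard
    have : C.index ≤ 16 := hxc
    interval_cases hci : C.index
    · exact (h2p 2 3 i 0 Nat.prime_two Nat.prime_three (by rw [hcard]; ring)).elim
    · exact (h2p 2 3 (i + 1) 0 Nat.prime_two Nat.prime_three (by rw [hcard]; ring)).elim
    · exact (h2p 2 3 i 1 Nat.prime_two Nat.prime_three (by rw [hcard]; ring)).elim
    · exact (h2p 2 3 (i + 2) 0 Nat.prime_two Nat.prime_three (by rw [hcard]; ring)).elim
    · exact (h2p 2 5 i 1 Nat.prime_two prime_five (by rw [hcard]; ring)).elim
    · exact (h2p 2 3 (i + 1) 1 Nat.prime_two Nat.prime_three (by rw [hcard]; ring)).elim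
    · exact (h2p 2 7 i 1 Nat.prime_two (by norm_num) (by rw [hcard]; ring)).elim
    · exact (h2p 2 3 (i + 3) 0 Nat.prime_two Nat.prime_three (by rw [hcard]; ring)).elim
    · exact (h2p 2 3 i 2 Nat.prime_two Nat.prime_three (by rw [hcard]; ring)).elim
    · exact (h2p 2 5 (i + 1) 1 Nat.prime_two prime_five (by rw [hcard]; ring)).elim
    · exact (h2p 2 11 i 1 Nat.prime_two (by norm_num) (by rw [hcard]; ring)).elim
    · exact (h2p 2 3 (i + 2) 1 Nat.prime_two Nat.prime_three (by rw [hcard]; ring)).elim
    · exact (h2p 2 13 i 1 Nat.prime_two (by norm_num) (by rw [hcard]; ring)).elim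
    · exact (h2p 2 7 (i + 1) 1 Nat.prime_two (by norm_num) (by rw [hcard]; ring)).elim
    · rcases Nat.lt_or_ge i 4 with hi3 | hi3
      · refine step_of_index K hb2 hb hna ?_
        rw [hcard]
        interval_cases i <;> decide
      obtain rfl : i = 4 := by omega
      -- order 240: use the normaliser of a Sylow 5-subgroup
      have : Fact (Nat.Prime 5) := ⟨prime_five⟩
      let P : Sylow 5 (G ⧸ K) := default
      have hP : Nat.card P = 5 := by
        rw [Sylow.card_eq_multiplicity, hcard,
          Nat.factorization_def _ prime_five,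
          show (15 * 2 ^ 4 : ℕ) = 5 ^ 1 * 48 by norm_num,
          padicValNat.mul (by norm_num) (by norm_num), padicValNat.prime_pow,
          padicValNat.eq_zero_of_not_dvd (by norm_num : ¬ 5 ∣ 48)]
        rfl
      set L := Subgroup.normalizer ((P : Subgroup (G ⧸ K)) : Set (G ⧸ K)) with hL
      have hLcore : L.normalCore = ⊥ := by
        by_contra hne
        have hNL : N ≤ L := (hmin _ inferInstance hne).trans (Subgroup.normalCore_le _)
        have hPn : (P : Subgroup (G ⧸ K)) ≤ N := by
          by_contra hnle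
          have hPd : Nat.card ((P : Subgroup (G ⧸ K)) ⊓ N : Subgroup (G ⧸ K)) = 1 := by
            have hd := Subgroup.card_dvd_of_le
              (inf_le_left : (P : Subgroup (G ⧸ K)) ⊓ N ≤ P)
            rw [hP] at hd
            rcases (Nat.dvd_prime prime_five).mp hd with h | h
            · exact h
            · exact absurd ((Subgroup.eq_of_le_of_card_ge inf_le_left
                (by rw [hP, h])).ge.trans inf_le_right) hnle
          have hbot := Subgroup.eq_bot_of_card_eq _ hPd
          obtain ⟨⟨p, hp⟩, hp1⟩ : ∃ p : (P : Subgroup (G ⧸ K)), p ≠ 1 := by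
            have : Nontrivial (P : Subgroup (G ⧸ K)) := Finite.one_lt_card_iff_nontrivial.mp
              (by rw [hP]; norm_num)
            exact exists_ne 1
          apply hp1
          refine Subtype.ext (Subgroup.mem_bot.mp (hcent ▸ fun m hm => ?_))
          rw [← commutatorElement_eq_one_iff_mul_comm, ← Subgroup.mem_bot, ← hbot,
            Subgroup.mem_inf, commutatorElement_def]
          refine ⟨(P : Subgroup (G ⧸ K)).mul_mem ?_ ((P : Subgroup (G ⧸ K)).inv_mem hp), ?_⟩
          · exact (Subgroup.mem_normalizer_iff.mp (hNL hm) p).mp hp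
          · rw [mul_assoc m p, mul_assoc m]
            exact N.mul_mem hm (Subgroup.Normal.conj_mem inferInstance _ (N.inv_mem hm) p)
        have hPnormal : ∀ g : G ⧸ K,
            (P : Subgroup (G ⧸ K)).map (MulAut.conj g).toMonoidHom ≤ (P : Subgroup (G ⧸ K)) := by
          intro g
          have hle : (P : Subgroup (G ⧸ K)).map (MulAut.conj g).toMonoidHom ≤ L := by
            rintro _ ⟨p, hp, rfl⟩
            exact hNL (by simpa using Subgroup.Normal.conj_mem inferInstance _ (hPn hp) g)
          have hpg : IsPGroup 5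
              ((P : Subgroup (G ⧸ K)).map (MulAut.conj g).toMonoidHom) := P.2.map _
          have hsup := hpg.to_sup_of_normal_right' P.2 hle
          exact le_sup_left.trans (P.3 hsup le_sup_right).le
        have hPN : (P : Subgroup (G ⧸ K)).Normal := ⟨fun p hp g =>
          hPnormal g ⟨p, hp, by simp⟩⟩
        have hPne : (P : Subgroup (G ⧸ K)) ≠ ⊥ := fun h => by
          rw [h, Subgroup.card_bot] at hP; norm_num at hP
        have hNP : N = P := le_antisymm (hmin _ hPN hPne) hPn
        apply hnab
        have : IsCyclic (P : Subgroup (G ⧸ K)) := isCyclic_of_prime_card hP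
        intro m hm n hn
        rw [hNP] at hm hn
        exact congrArg Subtype.val
          ((IsCyclic.commGroup (α := (P : Subgroup (G ⧸ K)))).mul_comm ⟨m, hm⟩ ⟨n, hn⟩)
      have hLcard := Sylow.card_eq_index_normalizer P
      have hmod := card_sylow_modEq_one 5 (G ⧸ K)
      have hdvd' := P.card_dvd_index
      have hPidx : (P : Subgroup (G ⧸ K)).index = 48 := by
        have h := (P : Subgroup (G ⧸ K)).card_mul_index
        rw [hP, hcard] at h
        omega
      rw [hPidx, hLcard] at hdvd'
      rw [hLcard] at hmod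
      have hLi : L.index = 1 ∨ L.index = 6 ∨ L.index = 16 := by
        have hle : L.index ≤ 48 := Nat.le_of_dvd (by norm_num) hdvd'
        have hm : L.index % 5 = 1 := hmod
        obtain ⟨c, hc⟩ := hdvd'
        interval_cases L.index <;> omega
      rcases degLe_or_dvd K hb L hLcore with hdeg | hdvdL
      · exact step_of_index_le (by omega) _ hdeg (by rw [index_comap_mk]; omega)
      · exfalso
        have h := L.card_mul_index
        rw [hcard] at h
        have hle := Nat.le_of_dvd (by norm_num) hdvdL
        rcases hLi with h' | h' | h' <;> rw [h'] at h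
        · omega
        · omega
        · rw [show Nat.card L = 15 by omega] at hdvdL
          norm_num at hdvdL
    · exact (h2p 2 3 (i + 4) 0 Nat.prime_two Nat.prime_three (by rw [hcard]; ring)).elim

end Nonabelian

section Induction

/-- One reduction step for a nonabelian group. -/
theorem exists_step {G : Type u} [Group G] [Finite G] {b : ℕ} (hb2 : 2 ≤ b) (hb : DegLe G b)
    (hna : ¬ ∀ x y : G, x * y = y * x) : Step G b := by
  obtain ⟨K, ⟨hKn, hKna⟩, hmax⟩ := (Set.toFinite {M : Subgroup G | M.Normal ∧
      ∃ x y : G, ⁅x, y⁆ ∉ M}).exists_maximal ⟨⊥, inferInstance, by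
    push Not at hna
    obtain ⟨x, y, h⟩ := hna
    exact ⟨x, y, fun h' => h (commutatorElement_eq_one_iff_mul_comm.mp (Subgroup.mem_bot.mp h'))⟩⟩
  have hq : ¬ ∀ x y : G ⧸ K, x * y = y * x := by
    intro h
    obtain ⟨x, y, hxy⟩ := hKna
    apply hxy
    rw [← QuotientGroup.eq_one_iff, ← QuotientGroup.mk'_apply, map_commutatorElement,
      commutatorElement_eq_one_iff_mul_comm]
    exact h _ _
  have hmin : ∀ M : Subgroup (G ⧸ K), M.Normal → M ≠ ⊥ → commutator (G ⧸ K) ≤ M := by
    intro M hM hne
    rw [commutator_def, Subgroup.commutator_le]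
    intro a _ c _
    obtain ⟨x, rfl⟩ := QuotientGroup.mk'_surjective K a
    obtain ⟨y, rfl⟩ := QuotientGroup.mk'_surjective K c
    by_contra hxy
    rw [← map_commutatorElement] at hxy
    have hle := hmax (y := M.comap (QuotientGroup.mk' K))
      ⟨hM.comap _, x, y, fun h => hxy (Subgroup.mem_comap.mp h)⟩ (le_comap_mk K M)
    apply hne
    rw [eq_bot_iff]
    intro z hz
    obtain ⟨w, rfl⟩ := QuotientGroup.mk'_surjective K z
    exact Subgroup.mem_bot.mpr
      ((QuotientGroup.eq_one_iff _).mpr (hle (Subgroup.mem_comap.mpr hz)))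
  by_cases hZ : Subgroup.center (G ⧸ K) = ⊥
  · by_cases hab : ∀ m ∈ commutator (G ⧸ K), ∀ n ∈ commutator (G ⧸ K), m * n = n * m
    · exact step_frobenius K hb2 hb hq hmin hZ hab
    · exact step_nonabelian K hb2 hb hq hmin hab
  · exact step_center K hb2 hb hq hmin hZ

/-- If all irreducible degrees of `G` are at most `b`, then `G` has an abelian subgroup of
index at most `(b!) ^ 2`. -/
theorem exists_abelian_index_le : ∀ (b : ℕ) (G : Type u) [Group G] [Finite G], DegLe G b →
    ∃ A : Subgroup G, (∀ x ∈ A, ∀ y ∈ A, x * y = y * x) ∧ A.index ≤ b.factorial ^ 2 := by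
  intro b
  induction b using Nat.strong_induction_on with
  | h b ih =>
    intro G _ _ hb
    by_cases hab : ∀ x y : G, x * y = y * x
    · refine ⟨⊤, fun x _ y _ => hab x y, ?_⟩
      rw [Subgroup.index_top]
      exact Nat.one_le_pow _ _ (Nat.factorial_pos b)
    · have hb2 : 2 ≤ b := by
        by_contra hlt
        refine hab (comm_of_degree_one fun χ => ?_)
        obtain ⟨d, hd0, hd⟩ := isIrrCharacter_degree χ.2
        have := hb χ d hd
        rw [hd, show d = 1 by omega, Nat.cast_one]
      obtain ⟨H, c, hc, hH, hidx⟩ := exists_step hb2 hb hab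
      obtain ⟨A, hA, hAi⟩ := ih c hc H hH
      refine ⟨A.map H.subtype, ?_, ?_⟩
      · rintro _ ⟨x, hx, rfl⟩ _ ⟨y, hy, rfl⟩
        rw [← map_mul, ← map_mul, hA x hx y hy]
      · rw [Subgroup.index_map_subtype]
        exact (Nat.mul_le_mul_right _ hAi).trans (le_of_eq_of_le (mul_comm _ _) hidx)

end Induction

end CfsgLib.MaxDeg
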