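import Cfsg.Agent.Lib.MaxDeg.Restrict
import Cfsg.Agent.Lib.Char.Ramified
import Cfsg.Agent.Lib.Char.Degree
import Cfsg.Agent.Lib.Char.ExtendChar
import Cfsg.Agent.Lib.Char.InvariantAbove

/-!
# Groups with bounded character degrees: minimal nonabelian quotients

Owner: helper1.  `K` is a normal subgroup maximal with nonabelian quotient `Q = G / K`;
this file treats subgroups above `K` and the case of a nontrivial centre of `Q`.
-/

namespace CfsgLib.MaxDeg

open Cfsg CfsgLib.Char ComplexConjugate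
open scoped commutatorElement

universe u

variable {G : Type u} [Group G]

/-- One reduction step: a subgroup with smaller degree bound and suitably small index. -/
def Step (G : Type u) [Group G] (b : ℕ) : Prop :=
  ∃ (H : Subgroup G) (c : ℕ),
    c < b ∧ DegLe H c ∧ H.index * c.factorial ^ 2 ≤ b.factorial ^ 2

theorem step_of_index_le {b : ℕ} (hb : 0 < b) (H : Subgroup G) (hd : DegLe H (b - 1))
    (hi : H.index ≤ b ^ 2) : Step G b := by
  refine ⟨H, b - 1, by omega, hd, ?_⟩
  calc H.index * (b - 1).factorial ^ 2 ≤ b ^ 2 * (b - 1).factorial ^ 2 := Nat.mul_le_mul_right _ hi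
    _ = b.factorial ^ 2 := by rw [← mul_pow, Nat.mul_factorial_pred hb.ne']

variable (K : Subgroup G) [K.Normal]

theorem exists_commutator_of_noncomm (hna : ¬ ∀ x y : G ⧸ K, x * y = y * x) :
    ∃ x y : G, x * y * x⁻¹ * y⁻¹ ∉ K := by
  push Not at hna
  obtain ⟨a, b, hab⟩ := hna
  obtain ⟨x, rfl⟩ := QuotientGroup.mk'_surjective K a
  obtain ⟨y, rfl⟩ := QuotientGroup.mk'_surjective K b
  refine ⟨x, y, fun h => hab ?_⟩
  rw [← commutatorElement_eq_one_iff_mul_comm, commutatorElement_def, ← map_inv, ← map_inv,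
    ← map_mul, ← map_mul, ← map_mul]
  exact (QuotientGroup.eq_one_iff _).mpr h

theorem step_of_index [Finite G] {b : ℕ} (hb2 : 2 ≤ b) (hb : DegLe G b)
    (hna : ¬ ∀ x y : G ⧸ K, x * y = y * x)
    (hi : Nat.card (G ⧸ K) * (b / 2).factorial ^ 2 ≤ b.factorial ^ 2) : Step G b := by
  have := Fintype.ofFinite G
  have := Fintype.ofFinite K
  exact ⟨K, b / 2, Nat.div_lt_self (by omega) one_lt_two,
    degLe_half K hb (exists_commutator_of_noncomm K hna), hi⟩

theorem degLe_quotient {b : ℕ} (hb : DegLe G b) : DegLe (G ⧸ K) b := by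
  intro Φ d hd
  exact hb ⟨fun g => (Φ : G ⧸ K → ℂ) (QuotientGroup.mk' K g),
    isIrrCharacter_comp_surjective Φ.2 _ (QuotientGroup.mk'_surjective K)⟩ d (by simpa using hd)

theorem le_comap_mk (C : Subgroup (G ⧸ K)) : K ≤ C.comap (QuotientGroup.mk' K) := fun k hk => by
  rw [Subgroup.mem_comap, QuotientGroup.mk'_apply, (QuotientGroup.eq_one_iff k).mpr hk]
  exact C.one_mem

/-- For a core-free subgroup of the quotient, either the preimage has smaller degrees, or
its order divides `b ^ 2`. -/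
theorem degLe_or_dvd [Finite G] {b : ℕ} (hb : DegLe G b) (C : Subgroup (G ⧸ K))
    (hcore : C.normalCore = ⊥) :
    DegLe (C.comap (QuotientGroup.mk' K)) (b - 1) ∨ Nat.card C ∣ b ^ 2 := by
  have := Fintype.ofFinite G
  set H := C.comap (QuotientGroup.mk' K) with hH
  have := Fintype.ofFinite H
  by_cases h : DegLe H (b - 1)
  · exact Or.inl h
  · refine Or.inr ?_
    obtain ⟨ψ, d, hd, hlt⟩ := not_degLe_iff.mp h
    have hle := hb.subgroup H ψ d hd
    obtain rfl : d = b := by omega
    have := Fintype.ofFinite (K.subgroupOf H)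
    have hdvd := index_dvd_sq_of_vanish (K.subgroupOf H) ψ hd fun g hg => by
      by_contra hne
      apply hg
      have hcm : QuotientGroup.mk' K (g : G) ∈ C.normalCore := fun q => by
        obtain ⟨x, rfl⟩ := QuotientGroup.mk'_surjective K q
        rw [← map_inv, ← map_mul, ← map_mul]
        exact conj_mem_of_value_ne_zero H hb hd hne x
      rw [hcore, Subgroup.mem_bot] at hcm
      exact Subgroup.mem_subgroupOf.mpr ((QuotientGroup.eq_one_iff _).mp hcm)
    refine (dvd_of_eq (Eq.symm ?_)).trans hdvd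
    have h1 := Subgroup.relIndex_mul_index (le_comap_mk K C)
    rw [Subgroup.index_comap_of_surjective C (QuotientGroup.mk'_surjective K),
      Subgroup.index_eq_card (H := K), ← C.card_mul_index] at h1
    exact Nat.eq_of_mul_eq_mul_right (Nat.pos_of_ne_zero C.index_ne_zero_of_finite) h1

theorem index_comap_mk (C : Subgroup (G ⧸ K)) :
    (C.comap (QuotientGroup.mk' K)).index = C.index :=
  Subgroup.index_comap_of_surjective C (QuotientGroup.mk'_surjective K)

section Center
variable [Finite G]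

/-- The case of a nontrivial centre of the minimal nonabelian quotient. -/
theorem step_center {b : ℕ} (hb2 : 2 ≤ b) (hb : DegLe G b)
    (hna : ¬ ∀ x y : G ⧸ K, x * y = y * x)
    (hmin : ∀ M : Subgroup (G ⧸ K), M.Normal → M ≠ ⊥ → commutator (G ⧸ K) ≤ M)
    (hZ : Subgroup.center (G ⧸ K) ≠ ⊥) : Step G b := by
  classical
  have := Fintype.ofFinite G
  have := Fintype.ofFinite (G ⧸ K)
  set Z := Subgroup.center (G ⧸ K) with hZdef
  have hNZ : commutator (G ⧸ K) ≤ Z := hmin Z inferInstance hZ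
  obtain ⟨Φ, hΦ⟩ : ∃ Φ : IrrCharacter (G ⧸ K), (Φ : G ⧸ K → ℂ) 1 ≠ 1 := by
    by_contra hcon
    push Not at hcon
    exact hna (comm_of_degree_one hcon)
  obtain ⟨n, ρ, hρ, hρc⟩ := Φ.2
  have hn : (Φ : G ⧸ K → ℂ) 1 = n := by
    rw [← hρc, Representation.char_one, Module.finrank_fin_fun]
  have hnb : n ≤ b := degLe_quotient K hb Φ n hn
  have hker : (ρ : (G ⧸ K) →* _).ker = ⊥ := by
    by_contra hne
    have hle := hmin _ inferInstance hne
    have hcomm : ∀ x y, ρ x * ρ y = ρ y * ρ x := fun x y => by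
      have h1 : ⁅x, y⁆ ∈ (ρ : (G ⧸ K) →* _).ker :=
        hle (Subgroup.commutator_mem_commutator (Subgroup.mem_top _) (Subgroup.mem_top _))
      rw [MonoidHom.mem_ker] at h1
      rw [← map_mul, ← map_mul, show x * y = ⁅x, y⁆ * (y * x) by rw [commutatorElement_def]; group,
        map_mul]
      rw [show ρ ⁅x, y⁆ = 1 from h1, one_mul]
    have hdiv := finrank_dvd_index_of_scalar ρ (⊤ : Subgroup (G ⧸ K))
      fun z _ => schur_scalar ρ (ρ z) fun x => hcomm z x
    rw [Subgroup.index_top, Module.finrank_fin_fun, Nat.dvd_one] at hdiv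
    exact hΦ (by rw [hn, hdiv, Nat.cast_one])
  have hinj : Function.Injective ρ := (MonoidHom.ker_eq_bot_iff _).mp hker
  have hvan : ∀ g, g ∉ Z → (Φ : G ⧸ K → ℂ) g = 0 := by
    intro g hg
    rw [hZdef, Subgroup.mem_center_iff] at hg
    push Not at hg
    obtain ⟨h, hgh⟩ := hg
    have hw : ⁅h, g⁆ ∈ Z :=
      hNZ (Subgroup.commutator_mem_commutator (Subgroup.mem_top _) (Subgroup.mem_top _))
    obtain ⟨c, hc⟩ := exists_scalar_of_mem_center ρ hw
    have hc1 : c ≠ 1 := by
      rintro rfl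
      apply hgh
      rw [← commutatorElement_eq_one_iff_mul_comm]
      apply hinj
      rw [hc, map_one, one_smul]
      rfl
    have h1 : (Φ : G ⧸ K → ℂ) (h * g * h⁻¹) = (Φ : G ⧸ K → ℂ) g :=
      (classFun_isConj (isClassFunction_irr Φ) (isConj_iff.mpr ⟨h, rfl⟩)).symm
    rw [← hρc, show h * g * h⁻¹ = ⁅h, g⁆ * g by rw [commutatorElement_def]; group] at h1
    simp only [Representation.character, map_mul, hc] at h1
    rw [smul_mul_assoc, show (LinearMap.id : (Fin n → ℂ) →ₗ[ℂ] (Fin n → ℂ)) * ρ g = ρ g from rfl,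
      map_smul, smul_eq_mul] at h1
    rw [← hρc]
    have h2 : (c - 1) * LinearMap.trace ℂ _ (ρ g) = 0 := by linear_combination h1
    exact (mul_eq_zero.mp h2).resolve_left (sub_ne_zero.mpr hc1)
  have hZidx : Z.index ≤ b ^ 2 := by
    have h1 := classInner_irr_self Φ
    rw [classInner_self] at h1
    have h2 : ((Nat.card (G ⧸ K) : ℝ)⁻¹ * ∑ g, ‖(Φ : G ⧸ K → ℂ) g‖ ^ 2) = 1 := by
      exact_mod_cast h1
    have hQ : (0 : ℝ) < Nat.card (G ⧸ K) := by exact_mod_cast Nat.card_pos
    have hsum : ∑ g, ‖(Φ : G ⧸ K → ℂ) g‖ ^ 2 = (Nat.card (G ⧸ K) : ℝ) := by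
      field_simp at h2; linarith
    have hle : (Nat.card (G ⧸ K) : ℝ) ≤ (Nat.card Z : ℝ) * (b : ℝ) ^ 2 := by
      rw [← hsum, ← Finset.sum_filter_of_ne (p := (· ∈ Z)) fun g _ hg => by
        by_contra hgZ; simp [hvan g hgZ] at hg]
      refine (Finset.sum_le_card_nsmul _ _ ((b : ℝ) ^ 2) fun g _ => ?_).trans_eq ?_
      · refine pow_le_pow_left₀ (norm_nonneg _) ?_ 2
        rw [← hρc]
        exact (norm_char_le ρ g).trans (by rw [Module.finrank_fin_fun]; exact_mod_cast hnb)
      · rw [nsmul_eq_mul]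
        congr 1
        rw [Nat.card_eq_fintype_card, Fintype.card_subtype]
    have hle' : Nat.card (G ⧸ K) ≤ Nat.card Z * b ^ 2 := by exact_mod_cast hle
    rw [← Z.card_mul_index] at hle'
    exact Nat.le_of_mul_le_mul_left hle' Nat.card_pos
  set H := Z.comap (QuotientGroup.mk' K) with hH
  have : H.Normal := Subgroup.Normal.comap inferInstance _
  have := Fintype.ofFinite H
  refine step_of_index_le (by omega) H ?_ (by rw [hH, index_comap_mk]; exact hZidx)
  by_contra hnd
  obtain ⟨ψ, d, hd, hlt⟩ := not_degLe_iff.mp hnd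
  have hdb := hb.subgroup H ψ d hd
  obtain rfl : d = b := by omega
  obtain ⟨x, y, hxy⟩ := exists_commutator_of_noncomm K hna
  have hwH : x * y * x⁻¹ * y⁻¹ ∈ H := by
    refine Subgroup.mem_comap.mpr (hNZ ?_)
    rw [map_mul, map_mul, map_mul, map_inv, map_inv]
    exact Subgroup.commutator_mem_commutator (Subgroup.mem_top _) (Subgroup.mem_top _)
  let f : H →* Z :=
    ((QuotientGroup.mk' K).comp H.subtype).codRestrict Z fun h => Subgroup.mem_comap.mp h.2
  let _ : CommGroup Z := { (inferInstance : Group Z) with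
    mul_comm := fun a c => Subtype.ext (Subgroup.mem_center_iff.mp a.2 c).symm }
  have hfw : f ⟨_, hwH⟩ ≠ 1 := fun h => by
    have h' := congrArg Subtype.val h
    exact hxy ((QuotientGroup.eq_one_iff _).mp h')
  obtain ⟨lam, hlam⟩ := CommGroup.exists_apply_ne_one_of_hasEnoughRootsOfUnity Z ℂ hfw
  set μ : H →* ℂˣ := lam.comp f with hμ
  let L : H → ℂ := fun h => (μ h : ℂ)
  have hL : IsIrrCharacter H L := isIrrCharacter_lin μ
  obtain ⟨χ, hχ⟩ := exists_extension H hb hd
  obtain ⟨χ', hχ'⟩ := exists_extension H hb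
    (ψ := ⟨_, isIrrCharacter_mul_linear ψ μ⟩) (by simp [hd])
  set ξ : G → ℂ := (χ' : G → ℂ) * fun g => conj ((χ : G → ℂ) g) with hξ
  have hξc : IsCharacter G ξ :=
    isCharacter_mul (isCharacter_irr χ') (isCharacter_conj (isCharacter_irr χ))
  have hinner : classInner (fun h : H => ξ h) L = 1 := by
    rw [← classInner_irr_self ψ]
    simp only [classInner]
    congr 1
    refine Finset.sum_congr rfl fun h _ => ?_
    have hu : (μ h : ℂ) * conj (μ h : ℂ) = 1 := by
      rw [show conj (μ h : ℂ) = (μ h⁻¹ : ℂ) from (irr_inv ⟨L, hL⟩ h).symm,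
        ← Units.val_mul, ← map_mul, mul_inv_cancel, map_one, Units.val_one]
    simp only [hξ, Pi.mul_apply, hχ h, hχ' h, L]
    linear_combination ((ψ : H → ℂ) h * conj ((ψ : H → ℂ) h)) * hu
  obtain ⟨η, hη1, hη2⟩ : ∃ η : IrrCharacter G,
      classInner ξ (η : G → ℂ) ≠ 0 ∧ classInner (fun h : H => (η : G → ℂ) h) L ≠ 0 := by
    by_contra hcon
    push Not at hcon
    have := Fintype.ofFinite (IrrCharacter G)
    have h1 := classInner_indFun_right H L ξ (isClassFunction_of_isCharacter hξc)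
    rw [hinner, classInner_expand (isClassFunction_indFun H L)] at h1
    refine one_ne_zero (α := ℂ) ?_
    rw [← h1]
    refine Finset.sum_eq_zero fun η _ => ?_
    by_cases h0 : classInner ξ (η : G → ℂ) = 0
    · rw [h0, zero_mul]
    · rw [classInner_indFun H _ _ (isClassFunction_irr η), classInner_conj, hcon η h0, mul_zero]
  obtain ⟨m, hm⟩ := classInner_isCharacter (isCharacter_restrict H (isCharacter_irr η))
    (isCharacter_of_isIrr hL)
  obtain ⟨m', hm'⟩ := classInner_isCharacter
    (isCharacter_restrict H (isCharacter_sub_constituent hξc η hη1)) (isCharacter_of_isIrr hL)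
  have hm1 : m = 1 := by
    have hsplit : (fun h : H => ξ h) =
        (fun h : H => (η : G → ℂ) h) + (fun h : H => (ξ - (η : G → ℂ)) h) := by
      funext h; simp
    rw [hsplit, classInner_add_left, hm, hm'] at hinner
    have h1 : m + m' = 1 := by exact_mod_cast hinner
    have h2 : m ≠ 0 := fun h0 => hη2 (by rw [hm, h0, Nat.cast_zero])
    omega
  obtain ⟨e, -, he, hres⟩ := restrict_eq_smul_of_invariant H η.2 hL hη2 fun g => by
    funext h
    simp only [conjFun, L, hμ, MonoidHom.comp_apply]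
    congr 2
    apply Subtype.ext
    change QuotientGroup.mk' K (g * h * g⁻¹) = QuotientGroup.mk' K h
    rw [map_mul, map_mul, map_inv, (Subgroup.mem_center_iff.mp (Subgroup.mem_comap.mp h.2)
      (QuotientGroup.mk' K g)), mul_inv_cancel_right]
  obtain rfl : e = 1 := by
    have : (e : ℂ) = (m : ℂ) := he.symm.trans hm
    rw [hm1] at this; exact_mod_cast this
  have hη_one : (η : G → ℂ) 1 = 1 := by
    have := congrFun hres 1
    simpa [L] using this
  obtain ⟨φ, hφ⟩ := exists_hom_of_linear (isCharacter_irr η) hη_one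
  apply hlam
  have hw1 := congrFun hres ⟨_, hwH⟩
  rw [hφ] at hw1
  simp only [Pi.smul_apply, smul_eq_mul, Nat.cast_one, one_mul, L] at hw1
  have hφ1 : φ (x * y * x⁻¹ * y⁻¹) = 1 := by
    simp [map_mul, map_inv, mul_assoc]
  rw [hφ1, Units.val_one] at hw1
  exact Units.ext hw1.symm

end Center

end CfsgLib.MaxDeg
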