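import Cfsg.Agent.Lib.Char.Inertia
import Cfsg.Agent.Lib.Char.Gallagher
import Cfsg.Agent.Lib.Char.Linear
import Cfsg.Agent.Lib.Char.Virtual
import Cfsg.Agent.Lib.Char.DegreeRatio

/-!
# Groups with bounded character degrees: restriction to subgroups

Owner: helper1.  Tools for the theorem of Isaacs and Passman on abelian subgroups of
small index.  `DegLe G b` says that every irreducible character of `G` has degree at
most `b`.  If a subgroup `H` still has a character of degree `b`, then it extends to `G`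
and vanishes at every element of `H` having a conjugate outside `H`.
-/

namespace CfsgLib.MaxDeg

open Cfsg CfsgLib.Char ComplexConjugate

universe u

/-- Every irreducible character has degree at most `b`. -/
def DegLe (G : Type u) [Group G] (b : ℕ) : Prop :=
  ∀ χ : IrrCharacter G, ∀ d : ℕ, (χ : G → ℂ) 1 = d → d ≤ b

variable {G : Type u} [Group G]

theorem DegLe.mono {b c : ℕ} (h : DegLe G b) (hbc : b ≤ c) : DegLe G c :=
  fun χ d hd => (h χ d hd).trans hbc

theorem not_degLe_iff {b : ℕ} :
    ¬ DegLe G b ↔ ∃ (χ : IrrCharacter G) (d : ℕ), (χ : G → ℂ) 1 = d ∧ b < d := by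
  simp [DegLe, not_forall]

section
variable [Fintype G] (H : Subgroup G) [Fintype H]

/-- Some irreducible character lies over a given one. -/
theorem exists_over (ψ : IrrCharacter H) :
    ∃ η : IrrCharacter G, classInner (fun h : H => (η : G → ℂ) h) (ψ : H → ℂ) ≠ 0 := by
  by_contra hcon
  push Not at hcon
  have hF : indFun H (ψ : H → ℂ) = 0 := by
    refine classFun_eq_zero_of_perp (isClassFunction_indFun _ _) fun η => ?_
    rw [classInner_indFun H _ _ (isClassFunction_irr η),
      ← classInner_conj, hcon η, map_zero]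
  have h1 := indFun_one H (ψ : H → ℂ)
  rw [hF] at h1
  rcases mul_eq_zero.mp h1.symm with h | h
  · exact H.index_ne_zero_of_finite (by exact_mod_cast h)
  · exact irr_one_ne_zero ψ h

omit [Fintype H] in
theorem isCharacter_restrict {χ : G → ℂ} (h : IsCharacter G χ) :
    IsCharacter H (fun x : H => χ x) := isCharacter_comp h H.subtype

theorem DegLe.subgroup {b : ℕ} (hb : DegLe G b) : DegLe H b := by
  intro ψ d hd
  obtain ⟨η, hη⟩ := exists_over H ψ
  obtain ⟨c, -, hc⟩ := isIrrCharacter_degree η.2
  exact (degree_le_of_constituent (isCharacter_restrict H (isCharacter_irr η)) ψ hη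
    (by simpa using hc) hd).1.trans (hb η c hc)

/-- A character over a character of maximal degree restricts to it. -/
theorem restrict_eq {b : ℕ} (hb : DegLe G b) {ψ : IrrCharacter H}
    (hψ : (ψ : H → ℂ) 1 = b) {η : IrrCharacter G}
    (hη : classInner (fun h : H => (η : G → ℂ) h) (ψ : H → ℂ) ≠ 0) :
    (fun h : H => (η : G → ℂ) h) = (ψ : H → ℂ) := by
  obtain ⟨c, -, hc⟩ := isIrrCharacter_degree η.2
  obtain ⟨h1, h2⟩ := degree_le_of_constituent (isCharacter_restrict H (isCharacter_irr η)) ψ hη
    (by simpa using hc) hψ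
  exact h2 (le_antisymm (hb η c hc) h1)

theorem exists_extension {b : ℕ} (hb : DegLe G b) {ψ : IrrCharacter H}
    (hψ : (ψ : H → ℂ) 1 = b) :
    ∃ χ : IrrCharacter G, ∀ h : H, (χ : G → ℂ) h = (ψ : H → ℂ) h := by
  obtain ⟨η, hη⟩ := exists_over H ψ
  exact ⟨η, fun h => congrFun (restrict_eq H hb hψ hη) h⟩

/-- A character of maximal degree of a subgroup vanishes on every element having a
conjugate outside the subgroup. -/
theorem conj_mem_of_value_ne_zero {b : ℕ} (hb : DegLe G b) {ψ : IrrCharacter H}
    (hψ : (ψ : H → ℂ) 1 = b) {h : H} (hh : (ψ : H → ℂ) h ≠ 0) (g : G) :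
    g * (h : G) * g⁻¹ ∈ H := by
  classical
  have := Fintype.ofFinite (IrrCharacter G)
  obtain ⟨χ, hχ⟩ := exists_extension H hb hψ
  set F := indFun H (ψ : H → ℂ) with hF
  have hexp := classFun_expand (isClassFunction_indFun H (ψ : H → ℂ))
  have hval : ∀ x : H, F x = (∑ η : IrrCharacter G, classInner F η) * (ψ : H → ℂ) x := by
    intro x
    conv_lhs => rw [hF, hexp]
    rw [Finset.sum_apply, Finset.sum_mul]
    refine Finset.sum_congr rfl fun η _ => ?_
    rw [Pi.smul_apply, smul_eq_mul]
    by_cases h0 : classInner F η = 0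
    · rw [← hF, h0]; simp
    · rw [← hF]
      congr 1
      refine congrFun (restrict_eq H hb hψ (η := η) ?_) x
      intro h1
      apply h0
      rw [hF, classInner_indFun H _ _ (isClassFunction_irr η), ← classInner_conj, h1, map_zero]
  have hψ1 : (ψ : H → ℂ) 1 ≠ 0 := irr_one_ne_zero ψ
  have hsum : (∑ η : IrrCharacter G, classInner F η) = (H.index : ℂ) := by
    have := hval 1
    rw [OneMemClass.coe_one, hF, indFun_one] at this
    exact (mul_right_cancel₀ hψ1 this).symm
  have hFh : F h = (H.index : ℂ) * (ψ : H → ℂ) h := by rw [hval, hsum]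
  have hterm : ∀ x : G, extendByZero H (ψ : H → ℂ) (x⁻¹ * h * x) =
      if x⁻¹ * h * x ∈ H then (ψ : H → ℂ) h else 0 := by
    intro x
    split_ifs with hx
    · rw [extendByZero_mem _ _ hx, ← hχ ⟨_, hx⟩, ← hχ h]
      refine classFun_isConj (isClassFunction_irr χ) ?_
      exact isConj_iff.mpr ⟨x, by simp [mul_assoc]⟩
    · rw [extendByZero_not_mem _ _ hx]
  set S := Finset.univ.filter (fun x : G => x⁻¹ * (h : G) * x ∈ H) with hS
  have hF2 : F h = (Nat.card H : ℂ)⁻¹ * ((S.card : ℂ) * (ψ : H → ℂ) h) := by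
    rw [hF]
    simp only [indFun]
    congr 1
    simp only [hterm]
    rw [Finset.sum_ite, Finset.sum_const_zero, add_zero, Finset.sum_const, nsmul_eq_mul]
  have hHne : (Nat.card H : ℂ) ≠ 0 := by exact_mod_cast Nat.card_pos.ne'
  have hcard : (S.card : ℂ) = (Fintype.card G : ℂ) := by
    have := hFh.symm.trans hF2
    rw [← mul_assoc] at this
    have h2 := mul_right_cancel₀ hh this
    have h3 : (H.index : ℂ) * Nat.card H = (Fintype.card G : ℂ) := by
      rw [← Nat.card_eq_fintype_card]
      exact_mod_cast H.index_mul_card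
    rw [← h3, h2]
    field_simp
  have hS' : S = Finset.univ := Finset.eq_univ_of_card _ (by exact_mod_cast hcard)
  have hg : g⁻¹ ∈ S := hS' ▸ Finset.mem_univ _
  simpa [hS] using hg

end

/-- If an irreducible character of degree `b` vanishes off a normal subgroup `K`, then the
index of `K` divides `b ^ 2`. -/
theorem index_dvd_sq_of_vanish [Fintype G] (K : Subgroup G) [K.Normal] [Fintype K]
    (ψ : IrrCharacter G) {b : ℕ} (hψ : (ψ : G → ℂ) 1 = b)
    (hvan : ∀ g : G, g ∉ K → (ψ : G → ℂ) g = 0) : K.index ∣ b ^ 2 := by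
  classical
  have hres := isCharacter_restrict K (isCharacter_irr ψ)
  obtain ⟨θ, hθ⟩ : ∃ θ : IrrCharacter K,
      classInner (fun k : K => (ψ : G → ℂ) k) (θ : K → ℂ) ≠ 0 := by
    by_contra hcon
    push Not at hcon
    have := classFun_eq_zero_of_perp (isClassFunction_of_isCharacter hres) hcon
    have h1 := congrFun this 1
    simp only [OneMemClass.coe_one, Pi.zero_apply] at h1
    exact irr_one_ne_zero ψ h1
  set χK : K → ℂ := fun k => (ψ : G → ℂ) k with hχK
  obtain ⟨e, he⟩ := classInner_char_irr_nat hres θ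
  obtain ⟨d, -, hd⟩ := isIrrCharacter_degree θ.2
  have hfin : {φ : K → ℂ | ∃ g : G, φ = conjFun K θ g}.Finite :=
    (Set.finite_range fun g : G => conjFun K θ g).subset
      (by rintro φ ⟨g, rfl⟩; exact ⟨g, rfl⟩)
  set T := hfin.toFinset with hT
  have hcl : χK = (e : ℂ) • ∑ φ ∈ T, φ := by
    have := clifford K ψ.2 θ.2 hθ
    rw [finsum_mem_eq_finite_toFinset_sum _ hfin, he] at this
    exact this
  have hnorm : classInner χK χK = ((e * (T.card * e) : ℕ) : ℂ) := by
    conv_lhs => arg 2; rw [hcl]
    rw [classInner_smul_right, classInner_sum_right, Finset.sum_congr rfl (g := fun _ => (e : ℂ))]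
    · rw [Finset.sum_const, nsmul_eq_mul, Complex.conj_natCast]; push_cast; ring
    · intro φ hφ
      obtain ⟨g, rfl⟩ := hfin.mem_toFinset.mp hφ
      rw [hχK, classInner_restrict_conj K (isClassFunction_irr ψ)]
      exact he
  have hdeg : b = e * (T.card * d) := by
    have h1 := congrFun hcl 1
    simp only [hχK, OneMemClass.coe_one, hψ, Pi.smul_apply, Finset.sum_apply, smul_eq_mul] at h1
    rw [Finset.sum_congr rfl (g := fun _ => (d : ℂ))] at h1
    · rw [Finset.sum_const, nsmul_eq_mul] at h1; exact_mod_cast h1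
    · intro φ hφ
      obtain ⟨g, rfl⟩ := hfin.mem_toFinset.mp hφ
      simp only [conjFun, OneMemClass.coe_one, mul_one, mul_inv_cancel]
      exact hd
  have hidx : classInner χK χK = (K.index : ℂ) := by
    have h1 : ∑ g : G, (ψ : G → ℂ) g * conj ((ψ : G → ℂ) g) =
        ∑ k : K, χK k * conj (χK k) := by
      rw [← Finset.sum_subtype (Finset.univ.filter (· ∈ K)) (by simp)
        (fun g => (ψ : G → ℂ) g * conj ((ψ : G → ℂ) g))]
      exact (Finset.sum_filter_of_ne fun g _ hg => by_contra fun hgK =>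
        hg (by rw [hvan g hgK, zero_mul])).symm
    have h2 := classInner_irr_self ψ
    simp only [classInner] at h2 ⊢
    rw [h1] at h2
    rw [← K.index_mul_card] at h2
    have hi : (K.index : ℂ) ≠ 0 := by exact_mod_cast K.index_ne_zero_of_finite
    have hc : (Nat.card K : ℂ) ≠ 0 := by exact_mod_cast Nat.card_pos.ne'
    push_cast at h2
    field_simp at h2 ⊢
    linear_combination h2
  have hn : K.index = e * (T.card * e) := by exact_mod_cast hidx.symm.trans hnorm
  rw [hn, hdeg]
  exact ⟨T.card * d ^ 2, by ring⟩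

/-- If `G / K` is nonabelian, then the degrees of the characters of `K` are at most half of
the maximal degree. -/
theorem degLe_half [Fintype G] (K : Subgroup G) [K.Normal] [Fintype K] {b : ℕ}
    (hb : DegLe G b) (hna : ∃ x y : G, x * y * x⁻¹ * y⁻¹ ∉ K) : DegLe K (b / 2) := by
  classical
  have := Fintype.ofFinite (IrrCharacter G)
  intro θ d hd
  obtain ⟨d0, hd0, hd0'⟩ := isIrrCharacter_degree θ.2
  obtain rfl : d0 = d := by exact_mod_cast hd0'.symm.trans hd
  obtain ⟨χ, hχ⟩ := exists_over K θ
  obtain ⟨c, hc0, hc⟩ := isIrrCharacter_degree χ.2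
  obtain ⟨hdc, -⟩ := ratio_dvd_index K χ.2 θ.2 hχ hc hd
  rcases Nat.eq_or_lt_of_le (Nat.le_of_dvd hc0 hdc) with heq | hlt
  · have hres : (fun k : K => (χ : G → ℂ) k) = (θ : K → ℂ) :=
      (degree_le_of_constituent (isCharacter_restrict K (isCharacter_irr χ)) θ hχ
        (by simpa using hc) hd).2 heq.symm
    obtain ⟨Φ, hΦ⟩ : ∃ Φ : IrrCharacter (G ⧸ K), (Φ : G ⧸ K → ℂ) 1 ≠ 1 := by
      by_contra hcon
      push Not at hcon
      obtain ⟨x, y, hxy⟩ := hna
      apply hxy
      rw [← QuotientGroup.eq_one_iff]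
      simp only [QuotientGroup.mk_mul, QuotientGroup.mk_inv]
      rw [comm_of_degree_one hcon (x : G ⧸ K) (y : G ⧸ K)]
      group
    obtain ⟨d', hd', hΦd⟩ := isIrrCharacter_degree Φ.2
    let φ : IrrCharacter G := ⟨fun g => (Φ : G ⧸ K → ℂ) (QuotientGroup.mk' K g),
      isIrrCharacter_comp_surjective Φ.2 _ (QuotientGroup.mk'_surjective K)⟩
    have hconst : ∀ (n : K) (g : G), (φ : G → ℂ) ((n : G) * g) = (φ : G → ℂ) g := by
      intro n g
      change (Φ : G ⧸ K → ℂ) _ = _
      rw [map_mul, show QuotientGroup.mk' K (n : G) = 1 from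
        (QuotientGroup.eq_one_iff _).mpr n.2, one_mul]
    have havg := cosetAvg_self_eq_one K χ (hres ▸ θ.2)
    have hnorm : classInner ((χ : G → ℂ) * (φ : G → ℂ)) ((χ : G → ℂ) * (φ : G → ℂ)) = 1 := by
      have h1 := classInner_irr_self φ
      simp only [classInner] at h1 ⊢
      rw [← h1]
      congr 1
      rw [← sum_cosetAvg K (fun g => _ * conj _)]
      refine Finset.sum_congr rfl fun g _ => ?_
      have hfac : (fun g => ((χ : G → ℂ) * (φ : G → ℂ)) g * conj (((χ : G → ℂ) * (φ : G → ℂ)) g))
          = (fun g => (χ : G → ℂ) g * conj ((χ : G → ℂ) g)) *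
            (fun g => (φ : G → ℂ) g * conj ((φ : G → ℂ) g)) := by
        funext g
        simp only [Pi.mul_apply, map_mul]
        ring
      rw [hfac, cosetAvg_mul_const K _ (fun n g => by rw [hconst]), havg]
      simp
    have hirr := isIrr_of_isCharacter_norm_one
      (isCharacter_mul (isCharacter_irr χ) (isCharacter_irr φ)) hnorm
    have hle := hb ⟨_, hirr⟩ (c * d') (by simp [φ, hc, hΦd])
    have h2 : 2 ≤ d' := by
      rcases Nat.lt_or_ge d' 2 with h | h
      · interval_cases d'
        exact absurd hΦd (by simpa using hΦ)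
      · exact h
    rw [Nat.le_div_iff_mul_le two_pos, heq]
    exact (Nat.mul_le_mul_left c h2).trans hle
  · obtain ⟨q, hq⟩ := hdc
    have hq2 : 2 ≤ q := by
      rcases Nat.lt_or_ge q 2 with h | h
      · interval_cases q <;> omega
      · exact h
    rw [Nat.le_div_iff_mul_le two_pos]
    calc d0 * 2 ≤ d0 * q := Nat.mul_le_mul_left _ hq2
      _ = c := hq.symm
      _ ≤ b := hb χ c hc

end CfsgLib.MaxDeg
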